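import Cfsg.Agent.H876.EK.Kit
import Cfsg.Agent.H215.CC.LyRow

/-!
# Faithful representations of the Lyons group in characteristic five have degree at least 22 (helper876)
-/

set_option autoImplicit false
set_option maxRecDepth 100000

namespace Cfsg.Agent.H876.EK.LyB

open Subgroup Cfsg
open Cfsg.Agent.H995.CopEngine

/-- elements of order 67 -/
theorem deg_model (hK : AllKnown.{0}) {K : Type*} [Field K] [IsAlgClosed K] (h5 : ((5 : ℕ) : K) = 0) {d : ℕ}
    (ρ : Spor.Ly →* Matrix.GeneralLinearGroup (Fin d) K) (hρ : Function.Injective ρ) : 22 ≤ d := by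
  have hp : Fact (Nat.Prime 67) := ⟨by norm_num⟩
  have h : Spor.IsoLy Spor.Ly := ⟨MulEquiv.refl _⟩
  have hfin : Finite Spor.Ly := Cfsg.Agent.Ly.Setup.finite_ly
  have hcard : Nat.card Spor.Ly = 51765179004000000 := NotCT.Orders.ly h
  have h2 : ¬ 67 ^ 2 ∣ Nat.card Spor.Ly := by rw [hcard]; norm_num
  obtain ⟨x, hx⟩ := exists_prime_orderOf_dvd_card' (G := Spor.Ly) 67 (by rw [hcard]; norm_num)
  have hC := H655.LySixtySeven.card_centralizer hK h hx
  have hN := H215.CC.LyRow.card_norm (n := 22) h2 hx hC (by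
    rw [hcard]
    decide +kernel)
  exact orb_prime ρ hρ hp.out (ne_zero_of (by norm_num) h5) hx hC hN

/-- **The Lyons group, characteristic five.** -/
theorem deg (hK : AllKnown.{0}) {T : Type*} [Group T] (hT : Spor.IsoLy T) {K : Type*} [Field K] [IsAlgClosed K]
    (h5 : ((5 : ℕ) : K) = 0) {d : ℕ} (ρ : T →* Matrix.GeneralLinearGroup (Fin d) K) (hρ : Function.Injective ρ) :
    22 ≤ d := by
  obtain ⟨e⟩ := hT
  exact deg_model hK h5 (ρ.comp e.symm.toMonoidHom) (hρ.comp e.symm.injective)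

end Cfsg.Agent.H876.EK.LyB
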