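import Cfsg.Agent.H876.EK.LyA
import Cfsg.Agent.H876.EK.LyB

/-!
# Faithful representations of the Lyons group have degree at least 22 (helper876)
-/

set_option autoImplicit false

namespace Cfsg.Agent.H876.EK.Ly

open Cfsg Cfsg.Agent.H995.CopEngine

/-- **The Lyons group.** -/
theorem deg (hK : AllKnown.{0}) {T : Type*} [Group T] (hT : Spor.IsoLy T) {K : Type*} [Field K] [IsAlgClosed K]
    {d : ℕ} (ρ : T →* Matrix.GeneralLinearGroup (Fin d) K) (hρ : Function.Injective ρ) : 22 ≤ d := by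
  by_cases h5 : ((5 : ℕ) : K) = 0
  · exact LyB.deg hK hT h5 ρ hρ
  · exact le_trans (by norm_num) (LyA.deg hT h5 ρ hρ)

end Cfsg.Agent.H876.EK.Ly
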