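import Cfsg.Agent.H203.LSDef

/-!
# Degrees of faithful representations of groups with an extraspecial 2-subgroup (helper876)
-/

set_option autoImplicit false

namespace Cfsg.Agent.H876.EK

open Matrix

theorem comm_aux {G : Type*} [Group G] {a b u z : G} (haz : a * z = z * a) (hbz : b * z = z * b)
    (hz : z * z = 1) (ha : u * a = a * u * z) (hb : u * b = b * u * z) :
    (a⁻¹ * b) * u = u * (a⁻¹ * b) := by
  have h1 : a⁻¹ * z = z * a⁻¹ := by
    rw [inv_mul_eq_iff_eq_mul, ← mul_assoc, haz, mul_inv_cancel_right]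
  have h2 : a⁻¹ * u = u * z * a⁻¹ := by
    rw [inv_mul_eq_iff_eq_mul]
    calc u = (u * a) * a⁻¹ := by group
      _ = a * (u * z * a⁻¹) := by rw [ha]; group
  have h3 : u * a⁻¹ = a⁻¹ * u * z := by
    rw [h2, mul_assoc (u * z), h1, mul_assoc u, ← mul_assoc z, hz, one_mul]
  calc (a⁻¹ * b) * u = a⁻¹ * (b * u * z) * z := by rw [mul_assoc a⁻¹ (b * u * z), mul_assoc (b * u), hz]; group
    _ = a⁻¹ * (u * b) * z := by rw [hb]
    _ = a⁻¹ * u * (b * z) := by group
    _ = a⁻¹ * u * z * b := by rw [hbz]; group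
    _ = u * (a⁻¹ * b) := by rw [← h3]; group

/-- **extraspecial 2-subgroups**: `|Q| ≤ 2 d²` for a faithful representation of degree `d` in odd characteristic -/
theorem large_deg {G : Type*} [Group G] {Q : Subgroup G} [Finite Q] {z : G} (z_mem : z ∈ Q) (z_ne : z ≠ 1)
    (z_sq : z * z = 1) (comm_z : ∀ x ∈ Q, x * z = z * x)
    (comm : ∀ x ∈ Q, ∀ y ∈ Q, x * y = y * x ∨ x * y = y * x * z)
    (cent : ∀ x ∈ Q, (∀ y ∈ Q, x * y = y * x) → x = 1 ∨ x = z) {K : Type*} [Field K] (h2 : (2 : K) ≠ 0) {d : ℕ}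
    (ρ : G →* GL (Fin d) K) (hρ : Function.Injective ρ) : Nat.card Q ≤ 2 * d ^ 2 := by
  classical
  set Z : Subgroup Q := (Subgroup.zpowers z).subgroupOf Q with hZ
  let R : G →* Matrix (Fin d) (Fin d) K := (Units.coeHom (Matrix (Fin d) (Fin d) K)).comp ρ
  have hR : Function.Injective R := fun a b h => hρ (Units.ext h)
  have hinv : ∀ g : G, R g * R g⁻¹ = 1 := fun g => by rw [← map_mul, mul_inv_cancel, map_one]
  have hinv' : ∀ g : G, R g⁻¹ * R g = 1 := fun g => by rw [← map_mul, inv_mul_cancel, map_one]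
  set e : Matrix (Fin d) (Fin d) K := 1 - R z with he
  have hez : R z * e = -e := by
    rw [he, mul_sub, mul_one, ← map_mul, z_sq, map_one, neg_sub]
  have hne : ∀ g : G, R g * e ≠ 0 := by
    intro g h
    have h1 : R g⁻¹ * (R g * e) = e := by rw [← mul_assoc, hinv', one_mul]
    rw [h, mul_zero] at h1
    rw [he] at h1
    have h3 : R z = R 1 := by rw [map_one]; exact (sub_eq_zero.1 h1.symm).symm
    exact z_ne (hR h3)
  have hcz : ∀ x ∈ Q, R x * e = e * R x := by
    intro x hx
    rw [he, mul_sub, sub_mul, mul_one, one_mul, ← map_mul, ← map_mul, comm_z x hx]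
  have h11 : (1 : K) ≠ -1 := by
    intro h
    apply h2
    have h3 : (1 : K) + 1 = 0 := by nth_rewrite 2 [h]; ring
    rw [← h3]; norm_num
  let f : Q → (Matrix (Fin d) (Fin d) K →ₗ[K] Matrix (Fin d) (Fin d) K) := fun u =>
    (LinearMap.mulLeft K (R u)).comp (LinearMap.mulRight K (R (u : G)⁻¹))
  let χ : (Q ⧸ Z) → Q → K := fun t u => if (u : G) * (t.out : G) = (t.out : G) * u then 1 else -1
  have key : ∀ u ∈ Q, ∀ s ∈ Q, R u * ((R s * e) * R u⁻¹) =
      (if u * s = s * u then (1 : K) else -1) • (R s * e) := by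
    intro u hu s hs
    have h3 : R u * ((R s * e) * R u⁻¹) = R (u * s * u⁻¹) * e := by
      rw [map_mul, map_mul, mul_assoc (R s), ← hcz _ (Q.inv_mem hu)]
      simp only [mul_assoc]
    rw [h3]
    split_ifs with h
    · rw [h, mul_inv_cancel_right, one_smul]
    · have h4 : u * s * u⁻¹ = s * z := by
        rcases comm u hu s hs with h5 | h5
        · exact absurd h5 h
        · rw [h5, mul_assoc (s * u), ← comm_z _ (Q.inv_mem hu), mul_assoc, mul_inv_cancel_left]
      rw [h4, map_mul, mul_assoc, hez, mul_neg, neg_smul, one_smul]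
  have hli := Cfsg.Agent.H203.LS.linearIndependent_of_weights f (fun t : Q ⧸ Z => R (t.out : G) * e) χ
    (fun t => hne _) (fun t u => key u u.2 t.out t.out.2) (by
      intro a b hab
      have h3 : ∀ u ∈ Q, (u * (a.out : G) = (a.out : G) * u ↔ u * (b.out : G) = (b.out : G) * u) := by
        intro u hu
        have h4 := congrFun hab ⟨u, hu⟩
        simp only [χ] at h4
        by_cases h5 : u * (a.out : G) = (a.out : G) * u
        · by_cases h6 : u * (b.out : G) = (b.out : G) * u
          · exact ⟨fun _ => h6, fun _ => h5⟩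
          · rw [if_pos h5, if_neg h6] at h4
            exact absurd h4 h11
        · by_cases h6 : u * (b.out : G) = (b.out : G) * u
          · rw [if_neg h5, if_pos h6] at h4
            exact absurd h4.symm h11
          · exact ⟨fun h => absurd h h5, fun h => absurd h h6⟩
      have h7 : ∀ u ∈ Q, ((a.out : G)⁻¹ * (b.out : G)) * u = u * ((a.out : G)⁻¹ * (b.out : G)) := by
        intro u hu
        by_cases h5 : u * (a.out : G) = (a.out : G) * u
        · have h6 := (h3 u hu).1 h5
          have h8 : (a.out : G)⁻¹ * u = u * (a.out : G)⁻¹ := by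
            rw [inv_mul_eq_iff_eq_mul, ← mul_assoc, ← h5, mul_inv_cancel_right]
          rw [mul_assoc, ← h6, ← mul_assoc, h8, mul_assoc]
        · have h6 : ¬ u * (b.out : G) = (b.out : G) * u := fun h => h5 ((h3 u hu).2 h)
          have h8 : u * (a.out : G) = (a.out : G) * u * z := (comm u hu _ a.out.2).resolve_left h5
          have h9 : u * (b.out : G) = (b.out : G) * u * z := (comm u hu _ b.out.2).resolve_left h6
          exact comm_aux (comm_z _ a.out.2) (comm_z _ b.out.2) z_sq h8 h9
      have h8 := cent ((a.out : G)⁻¹ * (b.out : G)) (Q.mul_mem (Q.inv_mem a.out.2) b.out.2) h7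
      have h9 : (a.out⁻¹ * b.out : Q) ∈ Z := by
        refine Subgroup.mem_subgroupOf.2 ?_
        change (a.out : G)⁻¹ * (b.out : G) ∈ Subgroup.zpowers z
        rcases h8 with h8 | h8 <;> rw [h8]
        · exact Subgroup.one_mem _
        · exact Subgroup.mem_zpowers z
      have h10 := QuotientGroup.eq.2 h9
      rwa [QuotientGroup.out_eq', QuotientGroup.out_eq'] at h10)
  have : Fintype (Q ⧸ Z) := Fintype.ofFinite _
  have hcard := hli.fintype_card_le_finrank
  rw [Module.finrank_matrix, Module.finrank_self, mul_one, Fintype.card_fin, ← Nat.card_eq_fintype_card] at hcard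
  have hZc : Nat.card Z = 2 := by
    have h3 : Nat.card Z = Nat.card (Subgroup.zpowers z) :=
      Nat.card_congr (Subgroup.subgroupOfEquivOfLe ((Subgroup.zpowers_le).2 z_mem)).toEquiv
    rw [h3, Nat.card_zpowers]
    exact orderOf_eq_prime (by rw [pow_two, z_sq]) z_ne
  rw [Subgroup.card_eq_card_quotient_mul_card_subgroup Z, hZc, mul_comm, pow_two]
  exact Nat.mul_le_mul_left 2 hcard

end Cfsg.Agent.H876.EK
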