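import Cfsg.Agent.H876.EK.Orb
import Cfsg.Agent.H203.LSDef

/-!
# Degrees of faithful representations of groups with a subgroup `5^{1+4}` (helper876)
-/

set_option autoImplicit false

namespace Cfsg.Agent.H876.EK

open Matrix Module

section Lin

variable {K : Type*} [Field K] {V : Type*} [AddCommGroup V] [Module K V]

/-- `a (b v) = μ (b v)` if `a b = b c`, `c v = μ v` -/
theorem shift {a b c : V →ₗ[K] V} (h : a * b = b * c) {v : V} {μ : K} (hc : c v = μ • v) : a (b v) = μ • b v := by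
  rw [← Module.End.mul_apply, h, Module.End.mul_apply, hc, map_smul]

theorem shift_pow {a b z : V →ₗ[K] V} (h : a * b = b * (a * z)) (hz : z * b = b * z) {v : V} {α β : K}
    (ha : a v = β • v) (hzv : z v = α • v) (i : ℕ) :
    a ((b ^ i) v) = (β * α ^ i) • (b ^ i) v ∧ z ((b ^ i) v) = α • (b ^ i) v := by
  induction i with
  | zero => simp [ha, hzv]
  | succ i ih =>
    rw [pow_succ', Module.End.mul_apply]
    refine ⟨?_, shift hz ih.2⟩
    refine (shift h (μ := β * α ^ (i + 1)) ?_)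
    rw [Module.End.mul_apply, ih.2, map_smul, ih.1, smul_smul]
    congr 1
    ring

theorem shift_pow' {a b : V →ₗ[K] V} (h : a * b = b * a) {v : V} {β : K} (ha : a v = β • v) (i : ℕ) :
    a ((b ^ i) v) = β • (b ^ i) v := by
  induction i with
  | zero => simp [ha]
  | succ i ih =>
    rw [pow_succ', Module.End.mul_apply]
    exact shift h ih

/-- the subspace of the eigenvectors in `W` -/
theorem exists_eig_sub [FiniteDimensional K V] [IsAlgClosed K] (W : Submodule K V) (hW : W ≠ ⊥) (f : V →ₗ[K] V)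
    (hf : ∀ w ∈ W, f w ∈ W) : ∃ μ : K, W ⊓ LinearMap.ker (f - μ • 1) ≠ ⊥ := by
  have : Nontrivial W := Submodule.nontrivial_iff_ne_bot.2 hW
  obtain ⟨μ, hμ⟩ := Module.End.exists_eigenvalue (f.restrict hf)
  obtain ⟨w, hw⟩ := hμ.exists_hasEigenvector
  refine ⟨μ, fun h => hw.2 (Subtype.ext ?_)⟩
  have h1 : w.1 ∈ W ⊓ LinearMap.ker (f - μ • 1) := by
    refine ⟨w.2, LinearMap.mem_ker.2 ?_⟩
    rw [LinearMap.sub_apply, sub_eq_zero]
    exact congrArg Subtype.val hw.apply_eq_smul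
  rw [h] at h1
  exact h1

end Lin

/-- **subgroups `5^{1+4}`** -/
theorem heis_le {G : Type*} [Group G] {K : Type*} [Field K] [IsAlgClosed K] (h5 : ((5 : ℕ) : K) ≠ 0) {d : ℕ}
    (ρ : G →* GL (Fin d) K) (hρ : Function.Injective ρ) {z x₁ x₂ y₁ y₂ : G} (hz5 : z ^ 5 = 1) (hne : z ≠ 1)
    (h11 : x₁ * y₁ = y₁ * (x₁ * z)) (h22 : x₂ * y₂ = y₂ * (x₂ * z))
    (h12 : x₁ * y₂ = y₂ * x₁) (h21 : x₂ * y₁ = y₁ * x₂) (hxx : x₁ * x₂ = x₂ * x₁) (hz1 : z * x₁ = x₁ * z)
    (hz2 : z * x₂ = x₂ * z) (hz3 : z * y₁ = y₁ * z) (hz4 : z * y₂ = y₂ * z) : 25 ≤ d := by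
  classical
  let f : G →* ((Fin d → K) →ₗ[K] (Fin d → K)) :=
    (Matrix.toLinAlgEquiv' : Matrix (Fin d) (Fin d) K ≃ₐ[K] _).toMonoidHom.comp
      ((Units.coeHom (Matrix (Fin d) (Fin d) K)).comp ρ)
  have hf : Function.Injective f := by
    intro a b hab
    apply hρ
    apply Units.ext
    exact (Matrix.toLinAlgEquiv' : Matrix (Fin d) (Fin d) K ≃ₐ[K] _).injective hab
  have hcomm : ∀ {a b : G}, a * b = b * a → f a * f b = f b * f a := fun {a b} h => by
    rw [← map_mul, h, map_mul]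
  -- an eigenvalue of `z` different from one
  obtain ⟨α, hα, hα1⟩ := exists_eig (f := f z) (m := 1) (r := 5) h5 (by
    rw [pow_one]
    intro h
    exact hne (hf (h.trans (map_one f).symm))) (by rw [pow_one, ← map_pow, hz5, map_one])
  rw [pow_one] at hα1
  obtain ⟨w, hw⟩ := hα.exists_hasEigenvector
  have hα5 : α ^ 5 = 1 := by
    have h1 : ∀ k : ℕ, ((f z) ^ k) w = α ^ k • w := by
      intro k
      induction k with
      | zero => simp
      | succ k ih => rw [pow_succ, Module.End.mul_apply, hw.apply_eq_smul, map_smul, ih, smul_smul, pow_succ, mul_comm]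
    have h2 := h1 5
    rw [← map_pow, hz5, map_one, Module.End.one_apply] at h2
    have h3 : (α ^ 5 - 1) • w = 0 := by rw [sub_smul, one_smul, ← h2, sub_self]
    exact sub_eq_zero.1 ((smul_eq_zero.1 h3).resolve_right hw.2)
  -- simultaneous eigenvectors
  have hker : ∀ {a : (Fin d → K) →ₗ[K] (Fin d → K)} {μ : K} {w : Fin d → K},
      w ∈ LinearMap.ker (a - μ • 1) ↔ a w = μ • w := by
    intro a μ w
    rw [LinearMap.mem_ker, LinearMap.sub_apply, sub_eq_zero]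
    rfl
  have hinv : ∀ {a b : (Fin d → K) →ₗ[K] (Fin d → K)} {μ : K} (W : Submodule K (Fin d → K)), a * b = b * a →
      (∀ w ∈ W, b w ∈ W) → ∀ w ∈ W ⊓ LinearMap.ker (a - μ • 1), b w ∈ W ⊓ LinearMap.ker (a - μ • 1) := by
    intro a b μ W hab hW w hw
    exact ⟨hW w hw.1, hker.2 (shift hab (hker.1 hw.2))⟩
  have hW1 : (⊤ ⊓ LinearMap.ker (f z - α • 1) : Submodule K (Fin d → K)) ≠ ⊥ := by
    intro h
    have h1 : w ∈ (⊤ ⊓ LinearMap.ker (f z - α • 1) : Submodule K (Fin d → K)) :=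
      ⟨Submodule.mem_top, hker.2 hw.apply_eq_smul⟩
    rw [h] at h1
    exact hw.2 h1
  obtain ⟨β, hW2⟩ := exists_eig_sub _ hW1 (f x₁) (hinv ⊤ (hcomm hz1) fun _ _ => Submodule.mem_top)
  obtain ⟨γ, hW3⟩ := exists_eig_sub _ hW2 (f x₂)
    (hinv _ (hcomm hxx) (hinv ⊤ (hcomm hz2) fun _ _ => Submodule.mem_top))
  obtain ⟨u, hu, hu0⟩ := Submodule.exists_mem_ne_zero_of_ne_bot hW3
  have hzu : f z u = α • u := hker.1 hu.1.1.2
  have h1u : f x₁ u = β • u := hker.1 hu.1.2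
  have h2u : f x₂ u = γ • u := hker.1 hu.2
  have hfi : ∀ (g : G) (v : Fin d → K), v ≠ 0 → f g v ≠ 0 := by
    intro g v hv h
    apply hv
    have h1 : f g⁻¹ (f g v) = v := by
      rw [← Module.End.mul_apply, ← map_mul, inv_mul_cancel, map_one, Module.End.one_apply]
    rw [← h1, h, map_zero]
  have hfp : ∀ (g : G) (k : ℕ) (v : Fin d → K), v ≠ 0 → ((f g) ^ k) v ≠ 0 := by
    intro g k v hv
    rw [← map_pow]
    exact hfi _ v hv
  have hβ : β ≠ 0 := by
    rintro rfl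
    rw [zero_smul] at h1u
    exact hfi _ u hu0 h1u
  have hγ : γ ≠ 0 := by
    rintro rfl
    rw [zero_smul] at h2u
    exact hfi _ u hu0 h2u
  have m11 : f x₁ * f y₁ = f y₁ * (f x₁ * f z) := by rw [← map_mul, h11, map_mul, map_mul]
  have m22 : f x₂ * f y₂ = f y₂ * (f x₂ * f z) := by rw [← map_mul, h22, map_mul, map_mul]
  let v : Fin 5 × Fin 5 → (Fin d → K) := fun i => ((f y₁) ^ i.1.1) (((f y₂) ^ i.2.1) u)
  have hv0 : ∀ i, v i ≠ 0 := fun i => hfp _ _ _ (hfp _ _ _ hu0)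
  let F : Fin 2 → (Fin d → K) →ₗ[K] (Fin d → K) := ![f x₁, f x₂]
  let χ : Fin 5 × Fin 5 → Fin 2 → K := fun i => ![β * α ^ i.1.1, γ * α ^ i.2.1]
  have hw2 : ∀ (i : Fin 5 × Fin 5) (j : Fin 2), F j (v i) = χ i j • v i := by
    intro i j
    have a1 := shift_pow m22 (hcomm hz4) h2u hzu i.2.1
    have a2 := shift_pow' (hcomm h12) h1u i.2.1
    fin_cases j
    · exact (shift_pow m11 (hcomm hz3) a2 a1.2 i.1.1).1
    · exact shift_pow' (hcomm h21) a1.1 i.1.1
  have hαo : orderOf α = 5 := orderOf_eq_prime (hp := ⟨Nat.prime_five⟩) hα5 hα1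
  have hinj : Function.Injective χ := by
    intro a b hab
    have e0 : β * α ^ a.1.1 = β * α ^ b.1.1 := congrFun hab 0
    have e1 : γ * α ^ a.2.1 = γ * α ^ b.2.1 := congrFun hab 1
    exact Prod.ext (Fin.ext (eq_of_pow hαo a.1.2 b.1.2 (mul_left_cancel₀ hβ e0)))
      (Fin.ext (eq_of_pow hαo a.2.2 b.2.2 (mul_left_cancel₀ hγ e1)))
  have hli := Cfsg.Agent.H203.LS.linearIndependent_of_weights F v χ hv0 hw2 hinj
  have hcard := hli.fintype_card_le_finrank
  rwa [Fintype.card_prod, Fintype.card_fin, finrank_fin_fun] at hcard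

end Cfsg.Agent.H876.EK
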