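import Cfsg.Agent.H876.EK.Heis
import Cfsg.Agent.H655.LyBound

/-!
# Faithful representations of the Lyons group in characteristic `≠ 5` have degree at least 25 (helper876)
-/

set_option autoImplicit false

namespace Cfsg.Agent.H876.EK.LyA

open Cfsg Cfsg.Agent.H655.LyBound

/-- **The Lyons group, characteristic different from five.** -/
theorem deg {T : Type*} [Group T] (hT : Spor.IsoLy T) {K : Type*} [Field K] [IsAlgClosed K]
    (h5 : ((5 : ℕ) : K) ≠ 0) {d : ℕ} (ρ : T →* Matrix.GeneralLinearGroup (Fin d) K) (hρ : Function.Injective ρ) :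
    25 ≤ d := by
  obtain ⟨e⟩ := hT
  have h : ∀ {v w : List ℕ}, Cfsg.Agent.Ly.Mat7.eqW v w = true → wd v = wd w := fun h => wd_eq h
  have hz5 := h ez5
  have h11 := h e11
  have h22 := h e22
  have h12 := h e12
  have h21 := h e21
  have hxx := h exx
  have hz1 := h ez1
  have hz2 := h ez2
  have hz3 := h ez3
  have hz4 := h ez4
  simp only [wd_append, wd_pw] at hz5 h11 h22 h12 h21 hxx hz1 hz2 hz3 hz4
  exact heis_le h5 (ρ.comp e.symm.toMonoidHom) (hρ.comp e.symm.injective) hz5 z_ne h11 h22 h12 h21 hxx hz1 hz2 hz3 hz4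

end Cfsg.Agent.H876.EK.LyA
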