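import Mathlib.LinearAlgebra.Eigenspace.Triangularizable
import Mathlib.LinearAlgebra.Matrix.GeneralLinearGroup.Defs
import Mathlib.LinearAlgebra.Matrix.ToLin
import Mathlib.GroupTheory.SpecificGroups.Cyclic
import Mathlib.GroupTheory.Index
import Mathlib.Tactic

/-!
# Degrees of faithful representations and rational elements (helper876)
-/

set_option autoImplicit false

namespace Cfsg.Agent.H876.EK

open Module

section Lin

variable {K : Type*} [Field K] {V : Type*} [AddCommGroup V] [Module K V] [FiniteDimensional K V]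

theorem exists_eig [IsAlgClosed K] {f : V →ₗ[K] V} {m r : ℕ} (hr : (r : K) ≠ 0) (hfm : f ^ m ≠ 1)
    (hf : (f ^ m) ^ r = 1) : ∃ μ : K, End.HasEigenvalue f μ ∧ μ ^ m ≠ 1 := by
  set W : Submodule K V := LinearMap.range (f ^ m - 1) with hW
  have hWne : W ≠ ⊥ := by
    intro h
    apply hfm
    rw [hW, LinearMap.range_eq_bot, sub_eq_zero] at h
    exact h
  have hinv : ∀ w ∈ W, f w ∈ W := by
    rintro _ ⟨v, rfl⟩
    refine ⟨f v, ?_⟩
    rw [LinearMap.sub_apply, LinearMap.sub_apply, map_sub]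
    congr 1
    rw [← Module.End.mul_apply, ← Module.End.mul_apply, ← pow_succ, pow_succ']
  have : Nontrivial W := Submodule.nontrivial_iff_ne_bot.2 hWne
  obtain ⟨μ, hμ⟩ := End.exists_eigenvalue (f.restrict hinv)
  obtain ⟨w, hw⟩ := hμ.exists_hasEigenvector
  have hw1 : f w.1 = μ • w.1 := congrArg Subtype.val hw.apply_eq_smul
  have hw0 : w.1 ≠ 0 := fun h => hw.2 (Subtype.ext h)
  refine ⟨μ, End.hasEigenvalue_of_hasEigenvector (End.hasEigenvector_iff.2 ⟨End.mem_eigenspace_iff.2 hw1, hw0⟩), ?_⟩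
  intro h1
  have hpow : ∀ j : ℕ, (f ^ j) w.1 = μ ^ j • w.1 := by
    intro j
    induction j with
    | zero => simp
    | succ j ih => rw [pow_succ, Module.End.mul_apply, hw1, map_smul, ih, smul_smul, pow_succ']
  have h2 : (f ^ m) w.1 = w.1 := by rw [hpow, h1, one_smul]
  obtain ⟨v, hv⟩ := w.2
  rw [LinearMap.sub_apply, Module.End.one_apply] at hv
  have h3 : (f ^ m) v = v + w.1 := by rw [← hv]; abel
  have h4 : ∀ j : ℕ, ((f ^ m) ^ j) v = v + (j : K) • w.1 := by
    intro j
    induction j with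
    | zero => simp
    | succ j ih =>
      rw [pow_succ', Module.End.mul_apply, ih, map_add, map_smul, h2, h3, Nat.cast_succ, add_smul, one_smul]
      abel
  have h5 := h4 r
  rw [hf, Module.End.one_apply] at h5
  have h6 : (r : K) • w.1 = 0 := by
    have : v + (r : K) • w.1 = v + 0 := by rw [← h5, add_zero]
    exact add_left_cancel this
  rcases smul_eq_zero.1 h6 with h | h
  · exact hr h
  · exact hw0 h

theorem card_eig {f : V →ₗ[K] V} {S : Finset K} (h : ∀ μ ∈ S, End.HasEigenvalue f μ) :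
    S.card ≤ finrank K V := by
  classical
  choose! w hw using fun μ (hμ : μ ∈ S) => (h μ hμ).exists_hasEigenvector
  have h1 := End.eigenvectors_linearIndependent' f (fun μ : S => μ.1) Subtype.val_injective
    (fun μ : S => w μ.1) (fun μ => hw μ.1 μ.2)
  have h2 := h1.fintype_card_le_finrank
  rwa [Fintype.card_coe] at h2

end Lin

open Matrix in
/-- **the orbit bound** -/
theorem orb {T : Type*} [Group T] {K : Type*} [Field K] [IsAlgClosed K] {d : ℕ}
    (ρ : T →* GL (Fin d) K) (hρ : Function.Injective ρ) {x : T} {m r : ℕ} (hr : (r : K) ≠ 0)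
    (hm : x ^ m ≠ 1) (hx : x ^ (m * r) = 1) (S : Finset ℕ) (hS : ∀ k ∈ S, IsConj x (x ^ k))
    (hinj : ∀ l : K, l ^ (m * r) = 1 → l ^ m ≠ 1 → ∀ a ∈ S, ∀ b ∈ S, l ^ a = l ^ b → a = b) :
    S.card ≤ d := by
  classical
  let f : T →* ((Fin d → K) →ₗ[K] (Fin d → K)) :=
    (Matrix.toLinAlgEquiv' : Matrix (Fin d) (Fin d) K ≃ₐ[K] _).toMonoidHom.comp
      ((Units.coeHom (Matrix (Fin d) (Fin d) K)).comp ρ)
  have hf : Function.Injective f := by
    intro a b hab
    apply hρ
    apply Units.ext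
    exact (Matrix.toLinAlgEquiv' : Matrix (Fin d) (Fin d) K ≃ₐ[K] _).injective hab
  have h1 : (f x) ^ m ≠ 1 := by
    rw [← map_pow]
    intro h
    exact hm (hf (h.trans (map_one f).symm))
  have h2 : ((f x) ^ m) ^ r = 1 := by rw [← pow_mul, ← map_pow, hx, map_one]
  obtain ⟨l, hl, hlm⟩ := exists_eig hr h1 h2
  obtain ⟨v, hv⟩ := hl.exists_hasEigenvector
  have hpow : ∀ j : ℕ, ((f x) ^ j) v = l ^ j • v := by
    intro j
    induction j with
    | zero => simp
    | succ j ih => rw [pow_succ, Module.End.mul_apply, hv.apply_eq_smul, map_smul, ih, smul_smul, pow_succ']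
  have hl1 : l ^ (m * r) = 1 := by
    have h3 := hpow (m * r)
    rw [pow_mul, h2, Module.End.one_apply] at h3
    have h4 : (l ^ (m * r) - 1) • v = 0 := by rw [sub_smul, one_smul, ← h3, sub_self]
    rcases smul_eq_zero.1 h4 with h | h
    · exact sub_eq_zero.1 h
    · exact absurd h hv.2
  have h3 : ∀ k ∈ S, End.HasEigenvalue (f x) (l ^ k) := by
    intro k hk
    obtain ⟨c, hc⟩ := isConj_iff.1 (hS k hk)
    have h4 : f c⁻¹ (((f x) ^ k) v) = (f x) (f c⁻¹ v) := by
      rw [← map_pow, ← hc, ← Module.End.mul_apply, ← Module.End.mul_apply, ← map_mul, ← map_mul]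
      congr 2
      group
    rw [hpow, map_smul] at h4
    refine End.hasEigenvalue_of_hasEigenvector (x := f c⁻¹ v) (End.hasEigenvector_iff.2
      ⟨End.mem_eigenspace_iff.2 h4.symm, ?_⟩)
    intro h5
    apply hv.2
    have h6 : f c (f c⁻¹ v) = v := by
      rw [← Module.End.mul_apply, ← map_mul, mul_inv_cancel, map_one, Module.End.one_apply]
    rw [← h6, h5, map_zero]
  have h4 := card_eig (f := f x) (S := S.image fun k => l ^ k) (by
    intro μ hμ
    obtain ⟨k, hk, rfl⟩ := Finset.mem_image.1 hμ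
    exact h3 k hk)
  rw [Finset.card_image_of_injOn (fun a ha b hb hab => hinj l hl1 hlm a ha b hb hab),
    finrank_fin_fun] at h4
  exact h4

/-- exponents of an element of order `n` -/
theorem eq_of_pow {K : Type*} [Field K] {l : K} {n a b : ℕ} (hl : orderOf l = n) (ha : a < n) (hb : b < n)
    (h : l ^ a = l ^ b) : a = b := by
  have h1 := IsPrimitiveRoot.orderOf l
  rw [hl] at h1
  exact h1.pow_inj ha hb h

open Subgroup in
/-- **elements of prime order** -/
theorem orb_prime {T : Type*} [Group T] [Finite T] {K : Type*} [Field K] [IsAlgClosed K] {d : ℕ}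
    (ρ : T →* Matrix.GeneralLinearGroup (Fin d) K) (hρ : Function.Injective ρ) {x : T} {r n c : ℕ}
    (hr : r.Prime) (hrK : (r : K) ≠ 0) (hx : orderOf x = r) (hC : Nat.card (centralizer ({x} : Set T)) = c)
    (hN : Nat.card (normalizer ((zpowers x : Subgroup T) : Set T)) = c * n) : n ≤ d := by
  classical
  set S : Finset ℕ := (Finset.range r).filter fun k => IsConj x (x ^ k) with hS
  have h1 : S.card ≤ d := by
    refine orb ρ hρ (x := x) (m := 1) (r := r) hrK ?_ ?_ S (fun k hk => (Finset.mem_filter.1 hk).2) ?_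
    · rw [pow_one]
      intro h
      rw [h, orderOf_one] at hx
      exact hr.one_lt.ne hx
    · rw [one_mul, ← hx, pow_orderOf_eq_one]
    · intro l hl hl1 a ha b hb hab
      rw [one_mul] at hl
      rw [pow_one] at hl1
      exact eq_of_pow (orderOf_eq_prime hl hl1 (hp := ⟨hr⟩)) (Finset.mem_range.1 (Finset.mem_filter.1 ha).1)
        (Finset.mem_range.1 (Finset.mem_filter.1 hb).1) hab
  refine le_trans ?_ h1
  set N := normalizer ((zpowers x : Subgroup T) : Set T) with hNd
  set C := centralizer ({x} : Set T) with hCd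
  have hmem : ∀ g : T, g ∈ C ↔ g * x * g⁻¹ = x := by
    intro g
    rw [hCd, Subgroup.mem_centralizer_singleton_iff, mul_inv_eq_iff_eq_mul]
  have hNx : ∀ g ∈ N, ∃ k, k < r ∧ g * x * g⁻¹ = x ^ k := by
    intro g hg
    have h2 : g * x * g⁻¹ ∈ zpowers x := (Subgroup.mem_normalizer_iff.1 hg x).1 (Subgroup.mem_zpowers x)
    have h3 : g * x * g⁻¹ ∈ Subgroup.zpowers x := h2
    rw [← mem_powers_iff_mem_zpowers] at h3
    obtain ⟨j, hj⟩ := h3
    refine ⟨j % r, Nat.mod_lt _ hr.pos, ?_⟩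
    rw [← hx, pow_mod_orderOf]
    exact hj.symm
  have hCN : C ≤ N := by
    intro g hg
    rw [hNd, Subgroup.mem_normalizer_iff]
    intro y
    have key : ∀ {g : T}, g ∈ C → ∀ {y : T}, y ∈ zpowers x → g * y * g⁻¹ ∈ zpowers x := by
      rintro g hg _ ⟨j, rfl⟩
      have h4 : g * x ^ j * g⁻¹ = (g * x * g⁻¹) ^ j := by rw [conj_zpow]
      change g * x ^ j * g⁻¹ ∈ zpowers x
      rw [h4, (hmem g).1 hg]
      exact Subgroup.zpow_mem_zpowers x j
    constructor
    · exact key hg
    · intro h5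
      have h6 := key (C.inv_mem hg) h5
      have e1 : g⁻¹ * (g * y * g⁻¹) * g⁻¹⁻¹ = y := by group
      rwa [e1] at h6
  choose! κ hκ1 hκ2 using hNx
  have hidx : (C.subgroupOf N).index = n := by
    have h2 := (C.subgroupOf N).card_mul_index
    have h3 : Nat.card (C.subgroupOf N) = c := by
      rw [← hC]
      exact Nat.card_congr (Subgroup.subgroupOfEquivOfLe hCN).toEquiv
    have hc : 0 < c := by rw [← hC]; exact Nat.card_pos
    rw [h3] at h2
    exact Nat.eq_of_mul_eq_mul_left hc (h2.trans hN)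
  rw [← hidx, Subgroup.index]
  have hfin : Nat.card S = S.card := by rw [Nat.card_eq_fintype_card, Fintype.card_coe]
  rw [← hfin]
  refine Nat.card_le_card_of_injective (fun q : N ⧸ C.subgroupOf N =>
    (⟨κ q.out.1, Finset.mem_filter.2 ⟨Finset.mem_range.2 (hκ1 _ q.out.2),
      isConj_iff.2 ⟨q.out.1, hκ2 _ q.out.2⟩⟩⟩ : S)) ?_
  intro a b hab
  have h2 : κ a.out.1 = κ b.out.1 := congrArg Subtype.val hab
  have h3 : a.out.1 * x * a.out.1⁻¹ = b.out.1 * x * b.out.1⁻¹ := by
    rw [hκ2 _ a.out.2, hκ2 _ b.out.2, h2]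
  have h4 : (a.out⁻¹ * b.out : N) ∈ C.subgroupOf N := by
    rw [Subgroup.mem_subgroupOf]
    change a.out.1⁻¹ * b.out.1 ∈ C
    rw [hmem]
    calc a.out.1⁻¹ * b.out.1 * x * (a.out.1⁻¹ * b.out.1)⁻¹
        = a.out.1⁻¹ * (b.out.1 * x * b.out.1⁻¹) * a.out.1 := by group
      _ = a.out.1⁻¹ * (a.out.1 * x * a.out.1⁻¹) * a.out.1 := by rw [h3]
      _ = x := by group
  have h5 := QuotientGroup.eq.2 h4
  rwa [QuotientGroup.out_eq', QuotientGroup.out_eq'] at h5

end Cfsg.Agent.H876.EK
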